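import Groth.Agent.AbDualLib.Lambda
import Groth.Agent.AbDualLib.Rigid
import Groth.Agent.AbDualLib.Swap
import Groth.Agent.RigidLib.Proper
import Groth.Prelude.Def_AgPol

/-!
# The pull back of the Poincaré class along the graph of a polarisation
-/

set_option autoImplicit false
set_option backward.isDefEq.respectTransparency false
set_option linter.style.haveILetI false
set_option linter.unusedSectionVars false

universe u

open CategoryTheory CategoryTheory.Limits MonoidalCategory CartesianMonoidalCategory MonObj AlgebraicGeometry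
open Groth.Agent.PicLib Groth.Agent.AbDualLib
open Groth.Agent.AmpleLib (isInvertible_pullback isInvertible_tensor)

noncomputable section

namespace Groth.Agent.PolPullLib

variable {S : Scheme.{u}} {A : Over S}

/-- The value of a correspondence at a pair of points. -/
def ev (c : Pic (PicF.XT A.hom A)) {T : Over S} (a b : T ⟶ A) : Pic T.left :=
  pull (X := (A ⊗ A).left) (lift a b).left c

theorem lift_left_fst {T : Over S} (a b : T ⟶ A) : (lift a b).left ≫ pullback.fst A.hom A.hom = a.left :=
  congrArg Over.Hom.left (lift_fst a b)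

theorem lift_left_snd {T : Over S} (a b : T ⟶ A) : (lift a b).left ≫ pullback.snd A.hom A.hom = b.left :=
  congrArg Over.Hom.left (lift_snd a b)

theorem lift_sw {T : Over S} (a b : T ⟶ A) : (lift a b).left ≫ sw A A = (lift b a).left := by
  apply pullback.hom_ext
  · rw [lift_left_fst, Category.assoc, pullbackSymmetry_hom_comp_fst, lift_left_snd]
  · rw [lift_left_snd, Category.assoc, pullbackSymmetry_hom_comp_snd, lift_left_fst]

theorem pull_ev (c : Pic (PicF.XT A.hom A)) {T T' : Over S} (k : T' ⟶ T) (a b : T ⟶ A) :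
    pull k.left (ev c a b) = ev c (k ≫ a) (k ≫ b) := by
  rw [ev, ev, ← pull_comp, ← comp_lift]
  rfl

theorem ev_proj (c : Pic (PicF.XT A.hom A)) : ev c (fst A A) (snd A A) = c := by
  rw [ev, lift_fst_snd]
  exact pull_id c

variable [GrpObj A] [IsProper A.hom] [Flat A.hom] [GeometricallyIntegral A.hom] [LocallyOfFinitePresentation A.hom]
  [GeometricallyConnected A.hom] [IsLocallyNoetherian S]

/-- A map on the product as a map on `PicF.XT`. -/
abbrev onXT {Z : Scheme.{u}} (f : (A ⊗ A).left ⟶ Z) : PicF.XT A.hom A ⟶ Z := f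

theorem pull_onXT (c : Pic (PicF.XT A.hom A)) {T : Over S} (k : A ⊗ A ⟶ T) (a b : T ⟶ A) :
    pull (onXT k.left) (ev c a b) = (ev c (k ≫ a) (k ≫ b) : Pic (A ⊗ A).left) :=
  pull_ev c k a b

/-- A correspondence trivial along both unit sections. -/
structure Rig (c : Pic (PicF.XT A.hom A)) : Prop where
  left : pull (eT A A) c = 1
  right : pull (PicF.XTmap A.hom η[A]) c = 1

theorem Rig.isPZ {c : Pic (PicF.XT A.hom A)} (h : Rig c) : IsPZ A A c := isPZ_of_family η[A] h.right

theorem Rig.one : Rig (1 : Pic (PicF.XT A.hom A)) := ⟨map_one _, map_one _⟩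

theorem Rig.mul {c d : Pic (PicF.XT A.hom A)} (hc : Rig c) (hd : Rig d) : Rig (c * d) :=
  ⟨by rw [map_mul, hc.left, hd.left, _root_.mul_one], by rw [map_mul, hc.right, hd.right, _root_.mul_one]⟩

theorem Rig.pow {c : Pic (PicF.XT A.hom A)} (hc : Rig c) (n : ℕ) : Rig (c ^ n) := by
  induction n with
  | zero => rw [pow_zero]; exact Rig.one
  | succ n ih => rw [pow_succ]; exact ih.mul hc

theorem dfc_one {c : Pic (PicF.XT A.hom A)} (hc : Rig c) : dfc A c = 1 := by
  obtain ⟨L, hL, rfl⟩ := exists_cls c
  haveI : IsLocallyNoetherian A.left := LocallyOfFiniteType.isLocallyNoetherian A.hom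
  exact dfc_eq_one A hL ((isPZ_cls_iff hL).1 hc.isPZ)

theorem ev_mul {c : Pic (PicF.XT A.hom A)} (hc : Rig c) {T : Over S} (a a' b : T ⟶ A) :
    ev c (a * a') b = ev c a b * ev c a' b := by
  let l : T.left ⟶ PicF.XT (A ⊗ A).hom A := pullback.lift (lift a a').left b.left
    ((Over.w (lift a a')).trans (Over.w b).symm)
  have hl : ∀ k : A ⊗ A ⟶ A, l ≫ AbDual.bcMap k A = (lift (lift a a' ≫ k) b).left := fun k => by
    apply pullback.hom_ext
    · rw [Category.assoc, bcMap_fst, lift_left_fst, ← Category.assoc, pullback.lift_fst, Over.comp_left]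
    · rw [Category.assoc, bcMap_snd, lift_left_snd, pullback.lift_snd]
  have h1 := congrArg (pull l) ((dfc_eq_one_iff A c).1 (dfc_one hc))
  rw [pull_comp (PicF.XTproj (A ⊗ A).hom A), hc.left, map_one, _root_.mul_one, map_mul, ← pull_comp, ← pull_comp,
    ← pull_comp, hl, hl, hl, lift_fst, lift_snd, ← Hom.mul_def] at h1
  exact h1

theorem ev_comm {c : Pic (PicF.XT A.hom A)} (hs : pull (sw A A) c = c) {T : Over S} (a b : T ⟶ A) :
    ev c a b = ev c b a := by
  conv_lhs => rw [ev, ← hs]
  rw [ev, ← lift_sw a b]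
  exact (pull_comp _ _ _).symm

theorem ev_mul_right {c : Pic (PicF.XT A.hom A)} (hc : Rig c) (hs : pull (sw A A) c = c) {T : Over S}
    (a b b' : T ⟶ A) : ev c a (b * b') = ev c a b * ev c a b' := by
  rw [ev_comm hs, ev_mul hc, ev_comm hs b, ev_comm hs b']

/-- The Lambda class of the restriction to the diagonal of a symmetric biextension class is its square. -/
theorem pull_mul_ev_diag {c : Pic (PicF.XT A.hom A)} (hc : Rig c) (hs : pull (sw A A) c = c) :
    c * c * pull (onXT (fst A A).left) (ev c (𝟙 A) (𝟙 A)) *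
        pull (onXT (snd A A).left) (ev c (𝟙 A) (𝟙 A)) =
      pull (onXT μ[A].left) (ev c (𝟙 A) (𝟙 A)) := by
  have hμ : μ[A] = fst A A * snd A A := by rw [Hom.mul_def, lift_fst_snd, Category.id_comp]
  rw [pull_onXT, pull_onXT, pull_onXT, Category.comp_id, Category.comp_id, Category.comp_id, hμ, ev_mul hc,
    ev_mul_right hc hs, ev_mul_right hc hs, ev_comm hs (snd A A) (fst A A), ev_proj]
  ac_rfl

/-- A morphism which is constant on every geometric fibre and preserves the units is constant. -/
theorem eq_one_of_geometric {Y : Over S} [GrpObj Y] (f : A ⟶ Y) (h1 : η[A] ≫ f = η[Y])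
    (h : ∀ (Ω : Type u) [Field Ω] [IsAlgClosed Ω] (t : Spec (CommRingCat.of Ω) ⟶ S),
      (Over.homMk (pullback.fst A.hom t) pullback.condition : Over.mk (pullback.snd A.hom t ≫ t) ⟶ A) ≫ f = 1) :
    f = 1 := by
  have h0 : RigidLib.BijApp A.hom := RigidLib.bijApp_of_fibres (AVLib.bijective_fiber A.hom)
  have hpt : ∀ (s : S) (x : A.left), A.hom x = s → f.left x = η[Y].left s := by
    intro s x hx
    let Ω := AlgebraicClosure (S.residueField s)
    let t : Spec (CommRingCat.of Ω) ⟶ S :=
      Spec.map (CommRingCat.ofHom (algebraMap (S.residueField s) Ω)) ≫ S.fromSpecResidueField s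
    have ht : t (IsLocalRing.closedPoint Ω) = s := S.fromSpecResidueField_apply s _
    obtain ⟨z, hz, -⟩ := Scheme.Pullback.exists_preimage_pullback (f := A.hom) (g := t) x (IsLocalRing.closedPoint Ω)
      (hx.trans ht.symm)
    have h2 := congrArg (fun m : Over.mk (pullback.snd A.hom t ≫ t) ⟶ Y => m.left z) (h Ω t)
    simp only [Hom.one_def, Over.comp_left, Over.homMk_left, Scheme.Hom.comp_apply] at h2
    refine (congrArg f.left hz).symm.trans (h2.trans (congrArg η[Y].left ?_))
    show (pullback.snd A.hom t ≫ t) z = s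
    rw [← pullback.condition, Scheme.Hom.comp_apply, hz, hx]
  choose W k hsW hk using fun s : S => RigidLib.exists_factor A.hom.isClosedMap h0 f.left (hpt s)
  have key : ∀ s, (A.hom ⁻¹ᵁ W s).ι ≫ f.left = (A.hom ⁻¹ᵁ W s).ι ≫ A.hom ≫ η[Y].left := fun s => by
    have hη : η[A].left ≫ A.hom = 𝟙 S := Over.w η[A]
    have hle : W s ≤ η[A].left ⁻¹ᵁ (A.hom ⁻¹ᵁ W s) :=
      le_of_eq ((Scheme.Hom.id_preimage (W s)).symm.trans ((congrArg (· ⁻¹ᵁ W s) hη.symm).trans
        (Scheme.Hom.comp_preimage _ _ _)))
    let e := η[A].left.resLE (A.hom ⁻¹ᵁ W s) (W s) hle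
    have he : e ≫ (A.hom ∣_ W s) = 𝟙 _ := by
      rw [← cancel_mono (W s).ι, Category.assoc, morphismRestrict_ι, Scheme.Hom.resLE_comp_ι_assoc, hη,
        Category.id_comp]
      exact Category.comp_id _
    have hk' : k s = (W s).ι ≫ η[Y].left := by
      rw [← Category.id_comp (k s), ← he, Category.assoc, hk, Scheme.Hom.resLE_comp_ι_assoc, ← Over.comp_left, h1]
    rw [← hk, hk', morphismRestrict_ι_assoc]
  apply Over.OverMorphism.ext
  refine (A.left.openCoverOfIsOpenCover (fun s => A.hom ⁻¹ᵁ W s) (eq_top_iff.2 fun x _ =>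
    TopologicalSpace.Opens.mem_iSup.2 ⟨A.hom x, hsW _⟩)).hom_ext _ _ fun s => ?_
  exact key s

variable {At : Over S} [GrpObj At] {φ : AgPol.DualMap A At}

theorem ph_one' (hd : AbDual.IsDualAV Scheme.fppfPrecoverage A At φ) {T : Over S} : ph φ T 1 = 1 := by
  have h := ph_mul hd (isPZ_one (X := A) (T := T)) isPZ_one
  rw [_root_.one_mul] at h
  exact right_eq_mul.1 h

theorem ph_pow' (hd : AbDual.IsDualAV Scheme.fppfPrecoverage A At φ) {c : Pic (PicF.XT A.hom A)} (hc : Rig c) :
    ∀ n : ℕ, ph φ A (c ^ n) = ph φ A c ^ n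
  | 0 => by rw [pow_zero, pow_zero, ph_one' hd]
  | n + 1 => by rw [pow_succ, pow_succ, ph_mul hd (hc.pow n).isPZ hc.isPZ, ph_pow' hd hc n]

/-- The Lambda class of a module on a geometric fibre, as a symmetric class trivial along the unit sections. -/
theorem lambdaSheaf_spec {Ω : Type u} [Field Ω] [IsAlgClosed Ω] (B : Over (Spec (CommRingCat.of Ω))) [GrpObj B]
    [IsCommMonObj B] {L : B.left.Modules} (hL : PicF.IsInvertible L) {N : (PicF.XT B.hom B).Modules}
    (hN : PicF.IsInvertible N)
    (h : AgPol.IsLambdaSheaf (μ[B].left : PicF.XT B.hom B ⟶ B.left) (fst B B).left (snd B B).left L N) :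
    pull (eT B B) (cls hN) = 1 ∧ pull (PicF.XTmap B.hom η[B]) (cls hN) = 1 ∧
      pull (sw B B) (cls hN) = cls hN := by
  have heq : cls hN * pull (onXT (fst B B).left) (cls hL) *
      pull (onXT (snd B B).left) (cls hL) =
      pull (onXT μ[B].left) (cls hL) := by
    rw [pull_cls, pull_cls, pull_cls, ← cls_tensor hN (isInvertible_pullback _ hL),
      ← cls_tensor (isInvertible_tensor hN (isInvertible_pullback _ hL)) (isInvertible_pullback _ hL)]
    exact (cls_eq_cls _ _).2 h
  have hpt : ∀ {T : Over (Spec (CommRingCat.of Ω))} (a b : T ⟶ B),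
      ev (cls hN) a b * pull a.left (cls hL) * pull b.left (cls hL) = pull (a * b).left (cls hL) := fun {T} a b => by
    have h1 := congrArg (pull (X := (B ⊗ B).left) (lift a b).left) heq
    simp only [map_mul] at h1
    erw [← pull_comp, ← pull_comp, ← pull_comp, ← Over.comp_left, ← Over.comp_left, ← Over.comp_left] at h1
    rw [lift_fst, lift_snd, ← Hom.mul_def] at h1
    exact h1
  have hconst : pull (1 : B ⟶ B).left (cls hL) = 1 := by
    haveI : IsLocalRing (CommRingCat.of Ω) := inferInstanceAs (IsLocalRing Ω)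
    rw [show (1 : B ⟶ B).left = B.hom ≫ η[B].left from by rw [Hom.one_def, Over.comp_left]; rfl, pull_comp,
      ]
    refine (congrArg (pull B.hom) ?_).trans (map_one _)
    exact eq_one_of_local (R := CommRingCat.of Ω) _
  refine ⟨?_, ?_, ?_⟩
  · have he : eT B B = (lift (1 : B ⟶ B) (𝟙 B)).left := by
      apply pullback.hom_ext
      · rw [eT_fst, lift_left_fst, Hom.one_def, Over.comp_left]; rfl
      · rw [lift_left_snd]; exact eT_snd B
    have h2 := hpt (1 : B ⟶ B) (𝟙 B)
    rw [_root_.one_mul, hconst, _root_.mul_one, mul_eq_right, ev] at h2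
    rw [he]; exact h2
  · have he : PicF.XTmap B.hom η[B] = pullback.fst B.hom (𝟙_ (Over (Spec (CommRingCat.of Ω)))).hom ≫
        (lift (𝟙 B) (1 : B ⟶ B)).left := by
      apply pullback.hom_ext
      · rw [Category.assoc, lift_left_fst]
        simp [PicF.XTmap]
      · rw [Category.assoc, lift_left_snd, Hom.one_def, Over.comp_left, ← Category.assoc]
        simp [PicF.XTmap]
        rw [← Category.assoc, pullback.condition]
        simp
    have h2 := hpt (𝟙 B) (1 : B ⟶ B)
    rw [_root_.mul_one, hconst, _root_.mul_one, mul_eq_right, ev] at h2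
    rw [he, pull_comp]
    exact (congrArg _ h2).trans (map_one _)
  · have h2 := hpt (snd B B) (fst B B)
    have h3 := hpt (fst B B) (snd B B)
    rw [mul_comm (snd B B), mul_right_comm] at h2
    rw [ev_proj] at h3
    have h4 : ev (cls hN) (snd B B) (fst B B) = cls hN :=
      mul_right_cancel (mul_right_cancel (h2.trans h3.symm))
    rw [ev, ← lift_sw, pull_comp, lift_fst_snd] at h4
    refine Eq.trans ?_ h4
    exact (pull_id _).symm

/-- The correspondence of a polarisation: rigidified, symmetric, with the polarisation as its point of the dual. -/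
theorem exists_symm_class 
    (hd : AbDual.IsDualAV Scheme.fppfPrecoverage A At φ)
    {ξ : PicF.Cl (PicF.XT A.hom At)} (hξ : AbDual.IsPoincareCl A At φ ξ)
    {lam : A ⟶ At} (hpol : AgPol.IsPolarization A At φ lam) :
    ∃ c : Pic (PicF.XT A.hom A), Rig c ∧ pull (sw A A) c = c ∧ ph φ A c = lam ∧
      toCl c = PicF.pullCl (PicF.XTmap A.hom lam) ξ := by
  obtain ⟨⟨M, rfl, hM, hz⟩, hid, ht⟩ := hξ
  have hP : IsPZ A At (cls hM) := (isPZ_cls_iff hM).2 hz
  have hPr : pull (eT A At) (cls hM) = 1 := toCl_injective ((toCl_pull _ _).trans ht)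
  have hPid : ph φ At (cls hM) = 𝟙 At := hid
  haveI := hpol.1
  let c := pull (PicF.XTmap A.hom lam) (cls hM)
  have hcl : pull (eT A A) c = 1 := InvDescLib.rigid_XTmap lam hPr
  have hcφ : ph φ A c = lam := by rw [ph_natural hd _ hP, hPid, Category.comp_id]
  have hcP : IsPZ A A c := isPZ_pull_XTmap _ hP
  have hcr : pull (PicF.XTmap A.hom η[A]) c = 1 := by
    refine eq_of_ph_eq hd (isPZ_pull_XTmap _ hcP) isPZ_one (InvDescLib.rigid_XTmap _ hcl) (map_one _) ?_
    rw [ph_natural hd _ hcP, hcφ, ph_one' hd, IsMonHom.one_hom lam]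
    rw [Hom.one_def, toUnit_unit, Category.id_comp]
  have hc : Rig c := ⟨hcl, hcr⟩
  have hswη : PicF.XTmap A.hom η[A] ≫ sw A A = pullback.fst A.hom (𝟙_ (Over S)).hom ≫ eT A A := by
    apply pullback.hom_ext
    · rw [Category.assoc, Category.assoc, pullbackSymmetry_hom_comp_fst, eT_fst]
      simp [PicF.XTmap]
      rw [← Category.assoc, pullback.condition]
      simp
    · rw [Category.assoc, Category.assoc, pullbackSymmetry_hom_comp_snd, eT_snd]
      simp [PicF.XTmap]
  have hswe : eT A A ≫ sw A A = (lift (𝟙 A) (1 : A ⟶ A)).left := by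
    apply pullback.hom_ext
    · rw [Category.assoc, pullbackSymmetry_hom_comp_fst, lift_left_fst]; exact eT_snd A
    · rw [Category.assoc, pullbackSymmetry_hom_comp_snd, lift_left_snd, eT_fst, Hom.one_def, Over.comp_left]; rfl
  have hunit : (lift (𝟙 A) (1 : A ⟶ A)).left = pullback.lift (f := A.hom) (g := (𝟙_ (Over S)).hom) (𝟙 A.left) A.hom
      ((Category.id_comp _).trans (Category.comp_id _).symm) ≫
      PicF.XTmap A.hom η[A] := by
    apply pullback.hom_ext
    · rw [lift_left_fst]; simp [PicF.XTmap]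
    · rw [lift_left_snd, Hom.one_def, Over.comp_left]; simp [PicF.XTmap]
  have hswc : Rig (pull (sw A A) c) := by
    constructor
    · rw [← pull_comp, hswe, hunit, pull_comp, hcr]; exact map_one _
    · rw [← pull_comp, hswη, pull_comp, hcl]; exact map_one _
  let d := pull (sw A A) c / c
  have hd' : Rig d := ⟨by simp only [d, map_div, hswc.left, hcl, div_one],
    by simp only [d, map_div, hswc.right, hcr, div_one]⟩
  have key : ph φ A d = 1 := by
    refine eq_one_of_geometric _ ?_ fun Ω _ _ t => ?_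
    · rw [← ph_natural hd _ hd'.isPZ, hd'.right, ph_one' hd, Hom.one_def, toUnit_unit, Category.id_comp]
    obtain ⟨L, hL, N, hN, hLN, hφN⟩ := hpol.2 Ω t
    let B := Red.bc t A
    haveI : IsProper B.hom := MorphismProperty.pullback_snd A.hom t inferInstance
    haveI : GeometricallyIntegral B.hom := MorphismProperty.pullback_snd A.hom t inferInstance
    haveI : GeometricallyConnected B.hom := MorphismProperty.pullback_snd A.hom t inferInstance
    haveI : IsCommMonObj B := isCommMonObj_of_isProper_of_geometricallyIntegral B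
    obtain ⟨hNl, hNr, hNs⟩ := lambdaSheaf_spec B hL.1 hN hLN
    let T : Over S := Over.mk (B.hom ≫ t)
    let g : T ⟶ A := Over.homMk (pullback.fst A.hom t) pullback.condition
    let i := AgPol.bcXTIso t A B
    let e : Pic (PicF.XT A.hom T) := pull i.inv (cls hN)
    have hi1 : i.hom ≫ pullback.fst A.hom T.hom =
        pullback.fst B.hom B.hom ≫ pullback.fst A.hom t :=
      pullbackLeftPullbackSndIso_hom_fst A.hom t B.hom
    have hi2 : i.hom ≫ pullback.snd A.hom T.hom = pullback.snd B.hom B.hom :=
      pullbackLeftPullbackSndIso_hom_snd A.hom t B.hom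
    have hNP : IsPZ B B (cls hN) := isPZ_of_family η[B] hNr
    have heP : IsPZ A T e := by
      simp only [e]
      rw [pull_cls, isPZ_cls_iff]
      exact fun z => algTrivialAt_pullback (PicF.XTproj B.hom B) (PicF.XTproj A.hom T) i.inv (𝟙 _)
        (by rw [Category.comp_id, Iso.inv_comp_eq]; exact hi2.symm) ((isPZ_cls_iff hN).1 hNP _)
    have hel : pull (eT A T) e = 1 := by
      rw [← pull_comp]
      refine (congrArg (fun m => pull m (cls hN)) (?_ : eT A T ≫ i.inv = eT B B)).trans hNl
      rw [Iso.comp_inv_eq]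
      apply pullback.hom_ext
      · rw [Category.assoc, hi1, eT_fst, ← Category.assoc, eT_fst, Category.assoc]
        refine (congrArg ((B.hom ≫ t) ≫ ·) rfl).trans ?_
        rw [Category.assoc]
        refine congrArg (B.hom ≫ ·) ?_
        simp [B, Red.bc]
      · rw [Category.assoc, hi2, eT_snd]; exact (eT_snd B).symm
    have heφ : ph φ T e = g ≫ lam := by
      apply Over.OverMorphism.ext
      have h1 := (pullback.lift_fst _ _ _).symm.trans
        (congrArg (fun m : B ⟶ Red.bc t At => m.left ≫ pullback.fst At.hom t) hφN)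
      refine (congrArg (fun c => (φ T c).left) (toCl_pull i.inv (cls hN))).trans (Eq.trans ?_ (h1.trans ?_))
      · rfl
      · show pullback.lift (pullback.fst A.hom t ≫ lam.left) (pullback.snd A.hom t) _ ≫ pullback.fst At.hom t = _
        rw [pullback.lift_fst]
        rfl
    have hce : pull (PicF.XTmap A.hom g) c = e := by
      refine eq_of_ph_eq hd (isPZ_pull_XTmap _ hcP) heP (InvDescLib.rigid_XTmap g hcl) hel ?_
      rw [ph_natural hd _ hcP, hcφ, heφ]
    have hh : (i.hom ≫ PicF.XTmap A.hom g) ≫ sw A A = sw B B ≫ i.hom ≫ PicF.XTmap A.hom g := by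
      have g1 : (i.hom ≫ PicF.XTmap A.hom g) ≫ pullback.fst A.hom A.hom =
          pullback.fst B.hom B.hom ≫ pullback.fst A.hom t := by
        rw [Category.assoc, show PicF.XTmap A.hom g ≫ pullback.fst A.hom A.hom = pullback.fst A.hom T.hom from
          (pullback.lift_fst _ _ _).trans (Category.comp_id _)]
        exact hi1
      have g2 : (i.hom ≫ PicF.XTmap A.hom g) ≫ pullback.snd A.hom A.hom =
          pullback.snd B.hom B.hom ≫ pullback.fst A.hom t := by
        rw [Category.assoc, show PicF.XTmap A.hom g ≫ pullback.snd A.hom A.hom = pullback.snd A.hom T.hom ≫ g.left from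
          pullback.lift_snd _ _ _, ← Category.assoc]
        exact congrArg (· ≫ pullback.fst A.hom t) hi2
      apply pullback.hom_ext
      · rw [Category.assoc, pullbackSymmetry_hom_comp_fst, g2, Category.assoc, g1, ← Category.assoc,
          pullbackSymmetry_hom_comp_fst]
      · rw [Category.assoc, pullbackSymmetry_hom_comp_snd, g1, Category.assoc, g2, ← Category.assoc,
          pullbackSymmetry_hom_comp_snd]
    have hcN : pull (i.hom ≫ PicF.XTmap A.hom g) c = cls hN := by
      rw [pull_comp, hce, ← pull_comp, Iso.hom_inv_id, pull_id]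
    have hdN : pull (PicF.XTmap A.hom g) d = 1 := by
      have h1 : pull i.hom (pull (PicF.XTmap A.hom g) d) = 1 := by
        rw [← pull_comp, map_div, ← pull_comp (i.hom ≫ PicF.XTmap A.hom g) (sw A A), hh, pull_comp, hcN]
        exact div_eq_one.2 hNs
      have h2 := congrArg (pull i.inv) h1
      rwa [← pull_comp, Iso.inv_hom_id, pull_id, map_one] at h2
    exact (ph_natural hd g hd'.isPZ).symm.trans ((congrArg (ph φ T) hdN).trans (ph_one' hd))
  have hd1 : d = 1 := eq_of_ph_eq hd hd'.isPZ isPZ_one hd'.left (map_one _) (key.trans (ph_one' hd).symm)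
  exact ⟨c, hc, div_eq_one.1 hd1, hcφ, (toCl_pull _ _).trans rfl⟩

theorem toCl_pow_graph {c : Pic (PicF.XT A.hom A)} {ξ : PicF.Cl (PicF.XT A.hom At)} {lam : A ⟶ At}
    (hc : toCl c = PicF.pullCl (PicF.XTmap A.hom lam) ξ) :
    toCl (ev c (𝟙 A) (𝟙 A)) =
      PicF.pullCl (pullback.lift (𝟙 A.left) lam.left ((Category.id_comp A.hom).trans (Over.w lam).symm)) ξ := by
  induction ξ using Quot.ind with
  | mk M =>
    obtain ⟨K, hK, rfl⟩ := exists_cls c
    obtain ⟨e⟩ := nonempty_iso_of_cl_eq hc
    refine (toCl_pull (lift (𝟙 A) (𝟙 A)).left _).trans (Quot.sound ⟨?_⟩)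
    refine (Scheme.Modules.pullback (lift (𝟙 A) (𝟙 A)).left).mapIso e ≪≫ (Scheme.Modules.pullbackComp _ _).app M ≪≫
      eqToIso (congrArg (fun m => (Scheme.Modules.pullback m).obj M) ?_)
    apply pullback.hom_ext
    · rw [Category.assoc, pullback.lift_fst]
      simp only [PicF.XTmap, pullback.lift_fst, Category.comp_id]
      exact lift_left_fst (𝟙 A) (𝟙 A)
    · rw [Category.assoc, pullback.lift_snd]
      simp only [PicF.XTmap, pullback.lift_snd]
      rw [← Category.assoc, lift_left_snd]
      exact Category.id_comp _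

end Groth.Agent.PolPullLib
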