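import Groth.Agent.PolPullLib.Basic
import Groth.Agent.AbSchLib.Main
import Mathlib.AlgebraicGeometry.Morphisms.FlatDescent

/-!
# Polarisations with the same pull back of the Poincaré class along their graphs
-/

set_option autoImplicit false
set_option backward.isDefEq.respectTransparency false
set_option linter.style.haveILetI false
set_option linter.unusedSectionVars false

universe u

open CategoryTheory CategoryTheory.Limits MonoidalCategory CartesianMonoidalCategory MonObj AlgebraicGeometry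
open Groth.Agent.PicLib Groth.Agent.AbDualLib

noncomputable section

namespace Groth.Agent.PolPullLib

variable {S : Scheme.{u}} {A : Over S} [GrpObj A] [IsProper A.hom] [Flat A.hom] [GeometricallyIntegral A.hom]
  [LocallyOfFinitePresentation A.hom] [GeometricallyConnected A.hom] [IsLocallyNoetherian S]
  {At : Over S} [GrpObj At] {φ : AgPol.DualMap A At}

theorem pullback_XTmap_pow (hd : AbDual.IsDualAV Scheme.fppfPrecoverage A At φ) {ξ : PicF.Cl (PicF.XT A.hom At)}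
    (hξ : AbDual.IsPoincareCl A At φ ξ) {c : Pic (PicF.XT A.hom A)} (hc : Rig c) {μ' : A ⟶ At}
    (hφ : ph φ A c = μ') : toCl c = PicF.pullCl (PicF.XTmap A.hom μ') ξ := by
  obtain ⟨⟨M, rfl, hM, hz⟩, hid, ht⟩ := hξ
  have hP : IsPZ A At (cls hM) := (isPZ_cls_iff hM).2 hz
  have hPr : pull (eT A At) (cls hM) = 1 := toCl_injective ((toCl_pull _ _).trans ht)
  have hPid : ph φ At (cls hM) = 𝟙 At := hid
  rw [show c = pull (PicF.XTmap A.hom μ') (cls hM) from eq_of_ph_eq hd hc.isPZ (isPZ_pull_XTmap _ hP) hc.left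
    (InvDescLib.rigid_XTmap _ hPr) (by rw [ph_natural hd _ hP, hPid, Category.comp_id, hφ]), toCl_pull]
  rfl

theorem eq_of_graph_eq [Smooth A.hom] (hd : AbDual.IsDualAV Scheme.fppfPrecoverage A At φ)
    {ξ : PicF.Cl (PicF.XT A.hom At)} (hξ : AbDual.IsPoincareCl A At φ ξ) {k : ℕ} (hk : 1 ≤ k)
    {lam₁ lam₂ : A ⟶ At} (h₁ : AgPol.IsPolarization A At φ lam₁) (h₂ : AgPol.IsPolarization A At φ lam₂)
    (heq : PicF.pullCl (pullback.lift (𝟙 A.left) (lam₁ ^ k).left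
        ((Category.id_comp A.hom).trans (Over.w (lam₁ ^ k)).symm)) ξ =
      PicF.pullCl (pullback.lift (𝟙 A.left) (lam₂ ^ k).left
        ((Category.id_comp A.hom).trans (Over.w (lam₂ ^ k)).symm)) ξ) : lam₁ = lam₂ := by
  obtain ⟨c₁, hc₁, hs₁, hφ₁, -⟩ := exists_symm_class hd hξ h₁
  obtain ⟨c₂, hc₂, hs₂, hφ₂, -⟩ := exists_symm_class hd hξ h₂
  have hφk : ∀ {c : Pic (PicF.XT A.hom A)} {lam : A ⟶ At}, Rig c → ph φ A c = lam → ph φ A (c ^ k) = lam ^ k :=
    fun hc hφ => by rw [ph_pow' hd hc, hφ]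
  have g₁ := toCl_pow_graph (pullback_XTmap_pow hd hξ (hc₁.pow k) (hφk hc₁ hφ₁))
  have g₂ := toCl_pow_graph (pullback_XTmap_pow hd hξ (hc₂.pow k) (hφk hc₂ hφ₂))
  have hd0 : ev (c₁ ^ k) (𝟙 A) (𝟙 A) = ev (c₂ ^ k) (𝟙 A) (𝟙 A) := toCl_injective (g₁.trans (heq.trans g₂.symm))
  have e₁ := pull_mul_ev_diag (hc₁.pow k) (by rw [map_pow, hs₁])
  have e₂ := pull_mul_ev_diag (hc₂.pow k) (by rw [map_pow, hs₂])
  rw [← hd0] at e₂
  have hN : c₁ ^ k * c₁ ^ k = c₂ ^ k * c₂ ^ k := mul_right_cancel (mul_right_cancel (e₁.trans e₂.symm))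
  have hpow : lam₁ ^ (k + k) = lam₂ ^ (k + k) := by
    rw [pow_add, pow_add, ← hφk hc₁ hφ₁, ← hφk hc₂ hφ₂, ← ph_mul hd (hc₁.pow k).isPZ (hc₁.pow k).isPZ,
      ← ph_mul hd (hc₂.pow k).isPZ (hc₂.pow k).isPZ, hN]
  haveI := h₁.1
  haveI := h₂.1
  obtain ⟨hfin, hflat, hsurj⟩ := AbSchLib.zpow_spec A ((k + k : ℕ) : ℤ) (by omega)
  haveI := hfin
  haveI := hflat
  haveI := hsurj
  have hcomp : (𝟙 A ^ ((k + k : ℕ) : ℤ)) ≫ lam₁ = (𝟙 A ^ ((k + k : ℕ) : ℤ)) ≫ lam₂ := by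
    rw [zpow_natCast]
    rw [MonObj.pow_comp, MonObj.pow_comp, Category.id_comp, Category.id_comp, hpow]
  apply Over.OverMorphism.ext
  haveI : Epi (𝟙 A ^ ((k + k : ℕ) : ℤ) : A ⟶ A).left := Flat.epi_of_flat_of_surjective _
  exact (cancel_epi (𝟙 A ^ ((k + k : ℕ) : ℤ) : A ⟶ A).left).1 (congrArg Over.Hom.left hcomp)

end Groth.Agent.PolPullLib
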